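import Groth.Agent.QuotTorus.Main
import Groth.Agent.TorusField.Bridge

/-!
Tori over fields are connected.
-/

set_option autoImplicit false
set_option backward.isDefEq.respectTransparency false
set_option backward.isDefEq.respectTransparency.types false
set_option linter.style.haveILetI false

universe u

open CategoryTheory CategoryTheory.Limits MonoidalCategory CartesianMonoidalCategory MonObj GrpObj AlgebraicGeometry

noncomputable section

namespace Groth.Agent.EtNormalTorusLib

/-- A torus over a field is connected. -/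
theorem connectedSpace_torus {K : Type u} [Field K] (T : Over (Spec (CommRingCat.of K))) [GrpObj T] (hT : Red.IsTorus T) :
    ConnectedSpace ↥T.left := by
  obtain ⟨S', f, -, hfs, -, hloc⟩ := hT
  haveI := hfs
  haveI : Nonempty ↥(Spec (CommRingCat.of K)) := inferInstanceAs (Nonempty (PrimeSpectrum K))
  obtain ⟨s', -⟩ := f.surjective (Classical.arbitrary ↥(Spec (CommRingCat.of K)))
  obtain ⟨U, hs', r, hsplit⟩ := hloc s'
  let x : ↥(U : Scheme.{u}) := ⟨s', hs'⟩
  let L := (U : Scheme.{u}).residueField x
  let g : Spec L ⟶ Spec (CommRingCat.of K) := (U : Scheme.{u}).fromSpecResidueField x ≫ U.ι ≫ f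
  obtain ⟨e⟩ := QuotTorus.isSplit_of_comp ((U : Scheme.{u}).fromSpecResidueField x) (U.ι ≫ f) (d := g) rfl hsplit
  let e₀ : Red.bc g T ≅ Red.DS _ (Fin r → ℤ) := ⟨e.hom.hom.hom, e.inv.hom.hom,
    congrArg (fun f => f.hom.hom) e.hom_inv_id, congrArg (fun f => f.hom.hom) e.inv_hom_id⟩
  let d := TorusField.dsIso L (Fin r → ℤ)
  let d₀ : Red.DS (Spec L) (Fin r → ℤ) ≅ (TorusField.specGrp L (MonoidAlgebra L (Multiplicative (Fin r → ℤ)))).X :=
    ⟨d.hom.hom.hom, d.inv.hom.hom, congrArg (fun f => f.hom.hom) d.hom_inv_id, congrArg (fun f => f.hom.hom) d.inv_hom_id⟩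
  haveI : IsDomain (MonoidAlgebra L (Multiplicative (Fin r → ℤ))) := NoZeroDivisors.to_isDomain _
  haveI : ConnectedSpace ↥(Spec (CommRingCat.of (MonoidAlgebra L (Multiplicative (Fin r → ℤ))))) :=
    inferInstanceAs (ConnectedSpace (PrimeSpectrum (MonoidAlgebra L (Multiplicative (Fin r → ℤ)))))
  let m : Red.bc g T ≅ _ := e₀ ≪≫ d₀
  haveI : ConnectedSpace ↥((Over.forget (Spec (CommRingCat.of L))).obj
      (TorusField.specGrp L (MonoidAlgebra L (Multiplicative (Fin r → ℤ)))).X) :=
    inferInstanceAs (ConnectedSpace ↥(Spec (CommRingCat.of (MonoidAlgebra L (Multiplicative (Fin r → ℤ))))))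
  haveI : ConnectedSpace ↥(pullback T.hom g) :=
    ((Over.forget _).mapIso m.symm).hom.homeomorph.surjective.connectedSpace
      ((Over.forget _).mapIso m.symm).hom.homeomorph.continuous
  haveI : Surjective g :=
    ⟨fun y => ⟨IsLocalRing.closedPoint L, @Subsingleton.elim _ (inferInstanceAs (Subsingleton (PrimeSpectrum K))) _ _⟩⟩
  haveI : Surjective (pullback.fst T.hom g) := inferInstance
  exact (pullback.fst T.hom g).surjective.connectedSpace (pullback.fst T.hom g).continuous

end Groth.Agent.EtNormalTorusLib
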