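import Groth.Agent.EtNormalTorusLib.Conn
import Groth.Agent.GaGmHom
import Groth.Agent.GmTorsor.Points
import Groth.Agent.GrpSchLib.Component

/-!
Étale normal subgroups of a torus acting on the additive group.
-/

set_option autoImplicit false
set_option backward.isDefEq.respectTransparency false
set_option backward.isDefEq.respectTransparency.types false
set_option linter.style.haveILetI false
set_option linter.unusedSectionVars false

universe u

open CategoryTheory CategoryTheory.Limits MonoidalCategory CartesianMonoidalCategory MonObj GrpObj AlgebraicGeometry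

noncomputable section

namespace Groth.Agent.EtNormalTorusLib

variable {K : Type u} [Field K] [IsAlgClosed K] {N : Over (Spec (CommRingCat.of K))} [GrpObj N] [Etale N.hom]

theorem isOpenImmersion_pt (n : 𝟙_ (Over (Spec (CommRingCat.of K))) ⟶ N) : IsOpenImmersion n.left := by
  haveI : IsSplitMono n := ⟨⟨⟨toUnit N, toUnit_unique _ _⟩⟩⟩
  haveI : IsSplitMono n.left := inferInstanceAs (IsSplitMono ((Over.forget _).map n))
  haveI : Etale (n.left ≫ N.hom) := by rw [Over.w n]; exact inferInstanceAs (Etale (𝟙 _))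
  haveI : Etale n.left := Etale.of_comp n.left N.hom
  exact IsOpenImmersion.of_flat_of_mono n.left

/-- A map from a connected scheme with a rational point is constant. -/
theorem eq_const {X : Over (Spec (CommRingCat.of K))} [ConnectedSpace ↥X.left] (c : X ⟶ N)
    (x₀ : 𝟙_ (Over (Spec (CommRingCat.of K))) ⟶ X) : c = toUnit X ≫ x₀ ≫ c := by
  let n₀ := x₀ ≫ c
  haveI := isOpenImmersion_pt n₀
  haveI : IsSeparated N.hom := GrpSchLib.isSeparated_hom
  haveI : IsClosedImmersion (n₀.left ≫ N.hom) := by rw [Over.w n₀]; exact inferInstanceAs (IsClosedImmersion (𝟙 _))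
  haveI : IsClosedImmersion n₀.left := IsClosedImmersion.of_comp n₀.left N.hom
  have hcl : IsClopen (Set.range n₀.left) :=
    ⟨n₀.left.isClosedEmbedding.isClosed_range, n₀.left.isOpenEmbedding.isOpen_range⟩
  have hne : (c.left ⁻¹' Set.range n₀.left).Nonempty := by
    refine ⟨x₀.left (IsLocalRing.closedPoint K), IsLocalRing.closedPoint K, ?_⟩
    rfl
  have huniv : c.left ⁻¹' Set.range n₀.left = Set.univ := (hcl.preimage c.left.continuous).eq_univ hne
  have hr : Set.range c.left ⊆ Set.range n₀.left := by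
    rintro _ ⟨x, rfl⟩
    exact (huniv.ge (Set.mem_univ x))
  let l := IsOpenImmersion.lift n₀.left c.left hr
  have hl : l ≫ n₀.left = c.left := IsOpenImmersion.lift_fac _ _ _
  have hl' : l = X.hom := by
    have h1 : l ≫ n₀.left ≫ N.hom = X.hom := by rw [← Category.assoc, hl, Over.w c]
    rw [Over.w n₀] at h1
    exact (Category.comp_id _).symm.trans h1
  refine Over.OverMorphism.ext ?_
  rw [← hl, hl']
  rfl

variable {T P : Over (Spec (CommRingCat.of K))} [GrpObj T] [GrpObj P] (n : N ⟶ P) [IsMonHom n] [Mono n]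

/-- A rational point of a normal étale subgroup commutes with connected subgroups. -/
theorem commute_pt (hn : AlgGrp.IsNormalHom n) [ConnectedSpace ↥T.left] (j : T ⟶ P) [IsMonHom j]
    (n₀ : 𝟙_ (Over (Spec (CommRingCat.of K))) ⟶ N) :
    j * (toUnit T ≫ n₀ ≫ n) * j⁻¹ = toUnit T ≫ n₀ ≫ n := by
  obtain ⟨n', hn'⟩ := hn T j (toUnit T ≫ n₀)
  rw [Category.assoc] at hn'
  have h1 := congrArg (η[T] ≫ ·) hn'
  simp only [MonObj.comp_mul, GrpObj.comp_inv] at h1
  rw [IsMonHom.one_hom j, ← Category.assoc η[T] (toUnit T), toUnit_unique (η[T] ≫ toUnit T) (𝟙 _), Category.id_comp,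
    MonObj.one_eq_one, _root_.one_mul, inv_one, _root_.mul_one] at h1
  rw [hn', eq_const n' η[T], Category.assoc]
  exact congrArg (toUnit T ≫ ·) h1.symm

theorem gmFn_one (X : Over (Spec (CommRingCat.of K))) : Red.gmFn (1 : X ⟶ Red.Gm (Spec (CommRingCat.of K))) = 1 := by
  have h := GmTorsor.gmFn_mul (1 : X ⟶ Red.Gm (Spec (CommRingCat.of K))) 1
  rw [_root_.one_mul] at h
  exact ((GaGmHom.isUnit_gmFn _).mul_eq_left).1 h.symm

theorem eq_one_of_smul {α : T ⟶ Red.Gm (Spec (CommRingCat.of K))} (hα : α ≠ 1)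
    (x : 𝟙_ (Over (Spec (CommRingCat.of K))) ⟶ Red.Ga (Spec (CommRingCat.of K)))
    (h : Red.gmFn α * Red.gaFn (toUnit T ≫ x) = Red.gaFn (toUnit T ≫ x)) : x = 1 := by
  apply GaPoints.gaFn_injective
  rw [GaPoints.gaFn_one]
  by_contra h0
  have hF : IsField Γ(Spec (CommRingCat.of K), ⊤) :=
    (Scheme.ΓSpecIso (CommRingCat.of K)).commRingCatIsoToRingEquiv.toMulEquiv.isField (Semifield.toIsField K)
  obtain ⟨b, hb⟩ := hF.mul_inv_cancel h0
  have hu : IsUnit (Red.gaFn (toUnit T ≫ x)) := by
    rw [GaPoints.gaFn_comp]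
    exact (IsUnit.of_mul_eq_one _ hb).map _
  exact hα (GaGmHom.gmFn_injective ((hu.mul_eq_right.1 h).trans (gmFn_one T).symm))

end Groth.Agent.EtNormalTorusLib
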